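/-
Groups with a cyclic Sylow subgroup.
-/
import Cfsg.Agent.Lib.Glaub.Compl
import Cfsg.Agent.Lib.Core.Components
import Cfsg.Agent.Lib.Transfer.AbelianSylow
import Cfsg.Agent.Lib.PGroup.Rank

set_option autoImplicit false
set_option linter.unusedSectionVars false
set_option linter.style.haveILetI false

namespace Cfsg.Agent.Lib.CycSylow

open Subgroup Cfsg.Agent.Lib.Core Cfsg.Agent.Lib.Transfer
open scoped commutatorElement

variable {G : Type*} [Group G] [Finite G] {p : ℕ} [hp : Fact p.Prime]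

theorem mem_zpowers_of_isCyclic {C : Subgroup G} [IsCyclic C] {x y : G} (hx : x ∈ C) (hy : y ∈ C)
    (hxp : x ^ p = 1) (hyp : orderOf y = p) : x ∈ zpowers y := by
  haveI : IsMulCommutative C := IsCyclic.isMulCommutative
  let K : Subgroup G :=
    { carrier := {z | z ∈ C ∧ z ^ p = 1}
      one_mem' := ⟨one_mem _, one_pow _⟩
      mul_mem' := fun {a b} ha hb => ⟨mul_mem ha.1 hb.1, by
        have : Commute a b := setLike_mul_comm ha.1 hb.1
        rw [this.mul_pow, ha.2, hb.2, one_mul]⟩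
      inv_mem' := fun {a} ha => ⟨inv_mem ha.1, by rw [inv_pow, ha.2, inv_one]⟩ }
  have hK : ∀ z, z ∈ K ↔ z ∈ C ∧ z ^ p = 1 := fun z => Iff.rfl
  have h1 : Nat.card K ∣ p :=
    PGroup.card_dvd_of_le_isCyclic (C := C) (fun z hz => ((hK z).mp hz).1) fun z hz => ((hK z).mp hz).2
  have h2 : zpowers y ≤ K := zpowers_le.mpr ((hK y).mpr ⟨hy, hyp ▸ pow_orderOf_eq_one y⟩)
  have h3 : zpowers y = K := eq_of_le_of_card_ge h2 (by
    rw [Nat.card_zpowers, hyp]; exact Nat.le_of_dvd hp.out.pos h1)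
  rw [h3]; exact (hK x).mpr ⟨hx, hxp⟩

theorem exists_orderOf_eq_of_dvd {A : Subgroup G} (h : p ∣ Nat.card A) : ∃ x ∈ A, orderOf x = p := by
  obtain ⟨x, hx⟩ := exists_prime_orderOf_dvd_card' p h
  exact ⟨x, x.2, by rw [Subgroup.orderOf_coe]; exact hx⟩

theorem inf_ne_bot_of_isCyclic {C A B : Subgroup G} [IsCyclic C] (hC : IsPGroup p C) (hA : A ≤ C)
    (hB : B ≤ C) (hA1 : A ≠ ⊥) (hB1 : B ≠ ⊥) : A ⊓ B ≠ ⊥ := by
  obtain ⟨x, hx, hxp⟩ := exists_orderOf_eq_of_dvd (dvd_card_of_isPGroup_of_ne_bot (hC.to_le hA) hA1)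
  obtain ⟨y, hy, hyp⟩ := exists_orderOf_eq_of_dvd (dvd_card_of_isPGroup_of_ne_bot (hC.to_le hB) hB1)
  have h := mem_zpowers_of_isCyclic (hA hx) (hB hy) (hxp ▸ pow_orderOf_eq_one x) hyp
  intro h0
  have : x ∈ A ⊓ B := ⟨hx, zpowers_le.mpr hy h⟩
  rw [h0, mem_bot] at this
  rw [this, orderOf_one] at hxp
  exact hp.out.one_lt.ne hxp

theorem dichotomy {P H : Subgroup G} [IsCyclic P] (hP : IsSyl p P H) :
    HasNormalPComplement p H ∨ (P ≤ ⁅H, H⁆ ∧ P ⊓ centralizer (H : Set G) = ⊥) := by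
  haveI : IsMulCommutative P := IsCyclic.isMulCommutative
  have hPN : P ≤ H ⊓ normalizer (P : Set G) := le_inf hP.le le_normalizer
  obtain ⟨h1, h2, -⟩ := commutator_sup_centralizer_of_abelian (A := P)
    (N := H ⊓ normalizer (P : Set G)) hPN inf_le_right (by
      obtain ⟨k, hk⟩ := IsPGroup.iff_card.mp hP.isPGroup
      rw [hk]
      exact (((Nat.Prime.coprime_iff_not_dvd hp.out).mpr
        (hP.mono hPN inf_le_left).not_dvd)).pow_left k)
  by_cases hc : P ⊓ centralizer ((H ⊓ normalizer (P : Set G) : Subgroup G) : Set G) = ⊥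
  · right
    rw [hc, sup_bot_eq] at h1
    refine ⟨h1.symm.le.trans (commutator_mono hP.le inf_le_left), eq_bot_iff.mpr ?_⟩
    rw [← hc]
    exact inf_le_inf_left _ (centralizer_le_centralizer inf_le_left)
  · left
    have h3 : ⁅P, H ⊓ normalizer (P : Set G)⁆ = ⊥ := by
      by_contra h
      exact inf_ne_bot_of_isCyclic hP.isPGroup (le_sup_left.trans h1.le) inf_le_left h hc h2
    obtain ⟨S, hS⟩ := hP.exists_sylow_map
    refine hasNormalPComplement_of_normalizer_le_centralizer S fun g hg => ?_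
    have h4 : (g : G) ∈ H ⊓ normalizer (P : Set G) := by
      rw [← hS, ← map_subtype_normalizer]; exact mem_map_of_mem _ hg
    rw [commutator_comm, commutator_eq_bot_iff_le_centralizer] at h3
    refine mem_centralizer_iff.mpr fun x hx => Subtype.ext ?_
    exact mem_centralizer_iff.mp (h3 h4) x (hS ▸ mem_map_of_mem H.subtype hx)

/-- With cyclic Sylow `p`-subgroup and `O_{p'} = 1`, the centralizer of a nontrivial normal
`p`-subgroup is the Sylow subgroup. -/
theorem centralizer_eq {P Z : Subgroup G} [IsCyclic P] (hP : IsSyl p P ⊤) (hO : pPrimeCore p G = ⊥)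
    [Z.Normal] (hZ : IsPGroup p Z) (hZ1 : Z ≠ ⊥) : centralizer (Z : Set G) = P := by
  haveI : IsMulCommutative P := IsCyclic.isMulCommutative
  have hZP : Z ≤ P := hP.le_of_le_normalizer hZ le_top (le_normalizer_of_normal)
  have hPC : P ≤ centralizer (Z : Set G) :=
    (le_centralizer P).trans (centralizer_le_centralizer hZP)
  have hS := hP.mono hPC le_top
  rcases dichotomy hS with h | ⟨-, h⟩
  · have h1 := Glaub.sup_OppOf_of_hnpc h hS
    have h2 : OppOf p (centralizer (Z : Set G)) ≤ OppOf p ⊤ :=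
      OppOf_mono_of_normal le_top le_normalizer_of_normal
    rw [OppOf_top, hO, le_bot_iff] at h2
    rw [h2, sup_bot_eq] at h1
    exact h1.symm
  · exact absurd (eq_bot_iff.mpr (h ▸ le_inf hZP (le_centralizer_iff.mp le_rfl))) hZ1

end Cfsg.Agent.Lib.CycSylow
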