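/-
Groups whose maximal subgroups are `p`-nilpotent or of prime index.
-/
import Cfsg.Agent.Lib.Glaub.HH
import Cfsg.Agent.Lib.Core.PSolv
import Cfsg.Agent.Lib.Transfer.Frobenius

set_option autoImplicit false
set_option linter.unusedSectionVars false
set_option linter.style.haveILetI false

namespace Cfsg.Agent.Lib.MaxPNil

open Subgroup Cfsg.Agent.Lib.Core Cfsg.Agent.Lib.Glaub Cfsg.Agent.Lib.Transfer
open scoped commutatorElement

universe u

variable {G : Type*} [Group G] [Finite G] {p : ℕ} [hp : Fact p.Prime]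

theorem hnpc_quotient_ker {H : Type*} [Group H] [Finite H] (f : G →* H)
    (h : HasNormalPComplement p H) : HasNormalPComplement p (G ⧸ f.ker) :=
  hasNormalPComplement_of_injective h _ (QuotientGroup.kerLift_injective f)

theorem hnpc_of_ker {H : Type*} [Group H] [Finite H] (f : G →* H) (hk : ¬ p ∣ Nat.card f.ker)
    (h : HasNormalPComplement p H) : HasNormalPComplement p G :=
  hasNormalPComplement_of_quotient hk (hnpc_quotient_ker f h)

theorem hnpc_of_ker_le_center {H : Type*} [Group H] [Finite H] (f : G →* H)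
    (hk : f.ker ≤ center G) (h : HasNormalPComplement p H) : HasNormalPComplement p G := by
  refine hasNormalPComplement_of_frobenius fun Q hQ g hg hc => ?_
  have h1 := mem_centralizer_of_hasNormalPComplement h (hQ.map f) (map_mem_normalizer f hg)
    (Nat.Coprime.coprime_dvd_left (orderOf_map_dvd f g) hc)
  refine zpowers_le.mp (le_centralizer_iff.mp
    ((coprimeAct_of_isPGroup_right (Glaub.not_dvd_card_zpowers hp.out hc) hQ
      (zpowers_le.mpr hg)).le_centralizer
      ((commutator_zpowers_le_iff.mpr fun u hu => ?_).trans (hk.trans (center_le_centralizer _)))))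
  rw [MonoidHom.mem_ker, map_commutatorElement, commutatorElement_eq_one_iff_mul_comm]
  exact h1 _ (mem_map_of_mem f hu)

theorem hnpc_prod {H : Type*} [Group H] [Finite H] (h1 : HasNormalPComplement p G)
    (h2 : HasNormalPComplement p H) : HasNormalPComplement p (G × H) := by
  rw [hasNormalPComplement_iff_mul_closed] at h1 h2 ⊢
  intro x y hx hy
  rw [Prod.orderOf] at hx hy ⊢
  exact Nat.Coprime.coprime_dvd_left (Nat.lcm_dvd_mul _ _) (Nat.Coprime.mul_left
    (h1 _ _ (hx.coprime_dvd_left (Nat.dvd_lcm_left _ _)) (hy.coprime_dvd_left (Nat.dvd_lcm_left _ _)))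
    (h2 _ _ (hx.coprime_dvd_left (Nat.dvd_lcm_right _ _))
      (hy.coprime_dvd_left (Nat.dvd_lcm_right _ _))))

theorem index_pPrimeCore_of_hnpc (h : HasNormalPComplement p G) :
    ∃ k, (pPrimeCore p G).index = p ^ k := by
  obtain ⟨P, N, hN, hc⟩ := h
  have h1 : N ≤ pPrimeCore p G := le_pPrimeCore (by rw [← hc.index_eq_card]; exact P.not_dvd_index)
  obtain ⟨k, hk⟩ := IsPGroup.iff_card.mp P.isPGroup'
  obtain ⟨j, -, hj⟩ := (Nat.dvd_prime_pow hp.out).mp
    (hk ▸ hc.symm.index_eq_card ▸ index_dvd_of_le h1 : (pPrimeCore p G).index ∣ p ^ k)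
  exact ⟨j, hj⟩

theorem relIndex_comap_mk' {N : Subgroup G} [N.Normal] (K : Subgroup (G ⧸ N)) :
    N.relIndex (K.comap (QuotientGroup.mk' N)) = Nat.card K := by
  have := relIndex_ker (K.comap (QuotientGroup.mk' N)) (QuotientGroup.mk' N)
  rwa [QuotientGroup.ker_mk', map_comap_mk'] at this

theorem hnpc_comap_quotient {N : Subgroup G} [N.Normal] {K : Subgroup (G ⧸ N)} [K.Normal]
    (h : HasNormalPComplement p ((G ⧸ N) ⧸ K)) :
    HasNormalPComplement p (G ⧸ K.comap (QuotientGroup.mk' N)) := by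
  have h1 := hnpc_quotient_ker ((QuotientGroup.mk' K).comp (QuotientGroup.mk' N)) h
  exact hasNormalPComplement_of_injective h1 (QuotientGroup.quotientMulEquivOfEq (by
    rw [← MonoidHom.comap_ker, QuotientGroup.ker_mk'])).toMonoidHom (MulEquiv.injective _)

theorem hyp_quotient {N : Subgroup G} [N.Normal]
    (h : ∀ M : Subgroup G, IsCoatom M → HasNormalPComplement p M ∨ M.index.Prime)
    (M : Subgroup (G ⧸ N)) (hM : IsCoatom M) : HasNormalPComplement p M ∨ M.index.Prime := by
  have hs := QuotientGroup.mk'_surjective N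
  rcases h _ (isCoatom_comap_of_surjective hs hM) with h1 | h1
  · left
    rw [← map_comap_eq_self_of_surjective hs M]
    exact hasNormalPComplement_map h1 _
  · right
    rwa [index_comap_of_surjective _ hs] at h1

theorem exists_normal_hnpc (G : Type u) [Group G] [Finite G] : PSolv p (⊤ : Subgroup G) →
    (∀ M : Subgroup G, IsCoatom M → HasNormalPComplement p M ∨ M.index.Prime) →
    ∃ (K : Subgroup G) (_ : K.Normal), HasNormalPComplement p K ∧
      HasNormalPComplement p (G ⧸ K) := by
  refine card_induction (P := fun G _ _ => PSolv p (⊤ : Subgroup G) →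
    (∀ M : Subgroup G, IsCoatom M → HasNormalPComplement p M ∨ M.index.Prime) →
    ∃ (K : Subgroup G) (_ : K.Normal), HasNormalPComplement p K ∧
      HasNormalPComplement p (G ⧸ K)) (fun G _ _ IH hG h => ?_) G
  by_cases h1 : (⊤ : Subgroup G) = ⊥
  · have : ¬ p ∣ Nat.card G := by
      rw [← card_top, h1, card_bot]; exact hp.out.not_dvd_one
    have h2 := hasNormalPComplement_of_not_dvd this
    exact ⟨⊥, inferInstance, hasNormalPComplement_subgroup h2 _, hasNormalPComplement_quotient h2 _⟩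
  by_cases hO : pPrimeCore p G = ⊥
  swap
  · obtain ⟨K, _, k1, k2⟩ := IH _ (Core.card_quotient_lt hO) (hG.quotient _) (hyp_quotient h)
    refine ⟨K.comap (QuotientGroup.mk' _), inferInstance,
      hnpc_of_ker ((QuotientGroup.mk' _).subgroupComap K) ?_ k1, hnpc_comap_quotient k2⟩
    refine fun hd => pPrimeCore_not_dvd (G := G) (hd.trans ?_)
    rw [← Core.card_map_subtype]
    refine card_dvd_of_le ?_
    rintro _ ⟨x, hx, rfl⟩
    exact (QuotientGroup.eq_one_iff _).mp (congrArg Subtype.val hx)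
  have hP : pCore p G ≠ ⊥ := by
    rw [← OpOf_top]; exact hG.OpOf_ne_bot (by rw [OppOf_top, hO]) h1
  obtain ⟨N, hNP, hN⟩ := exists_minN_le hP
  haveI := hN.normal
  have hNp : IsPGroup p N := pCore_isPGroup.to_le hNP
  let π := QuotientGroup.mk' N
  have hs : Function.Surjective π := QuotientGroup.mk'_surjective N
  obtain ⟨K, _, k1, k2⟩ := IH _ (Core.card_quotient_lt hN.ne_bot) (hG.quotient _) (hyp_quotient h)
  haveI : (OppOf p K).Normal := normal_of_le_normalizer_top
    (le_normalizer_OppOf le_normalizer_of_normal)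
  have hrel : N.relIndex ((OppOf p K).comap π) = Nat.card (OppOf p K) := relIndex_comap_mk' _
  obtain ⟨Q, q1, q2, q3, q4⟩ := exists_complement (N := N) (H := (OppOf p K).comap π)
    (le_comap_mk' _) le_normalizer_of_normal
    (by rw [hrel]; exact coprime_card_of_isPGroup hNp (OppOf_not_dvd K))
  have hQ : ¬ p ∣ Nat.card Q := by rw [q4, hrel]; exact OppOf_not_dvd K
  by_cases hQn : 𝐍(Q) = ⊤
  · refine ⟨K.comap π, inferInstance, ?_, hnpc_comap_quotient k2⟩
    obtain ⟨S, hS⟩ := exists_isSyl (p := p) K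
    refine hnpc_of_sup (S := S.comap π) (N := Q)
      (hS.isPGroup.comap_of_ker_isPGroup π (by rw [QuotientGroup.ker_mk']; exact hNp)) hQ
      (hQn ▸ le_top) ?_
    rw [← sup_OppOf_of_hnpc k1 hS, comap_sup_eq π _ _ hs |>.symm, ← q3]
    exact sup_le le_sup_left (sup_le le_sup_right ((le_comap_mk' S).trans le_sup_left))
  have hfr : N ⊔ 𝐍(Q) = ⊤ := by
    refine eq_top_iff.mpr fun g _ => ?_
    obtain ⟨n, hn, h2⟩ := exists_conj_le_of_solvable_left (N := N) (H := Q) (K := cj(g, Q))
      (isSolvable_of_isPGroup hNp) le_normalizer_of_normal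
      (q3 ▸ map_conj_le_of_le q1 (le_normalizer_of_normal (mem_top g))) q2
      (by rw [card_map_conj]; exact (coprime_card_of_isPGroup hNp hQ).symm)
    rw [map_conj_map_conj] at h2
    have := mul_mem (mem_sup_left (inv_mem hn) : n⁻¹ ∈ N ⊔ 𝐍(Q))
      (mem_sup_right (mem_normalizer_of_cj_le h2))
    rwa [inv_mul_cancel_left] at this
  obtain ⟨M, hM, hQM⟩ := (eq_top_or_exists_le_coatom 𝐍(Q)).resolve_left hQn
  have hNM : M ⊔ N = ⊤ := eq_top_iff.mpr (hfr ▸ sup_le le_sup_right (hQM.trans le_sup_left))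
  have hNC := hN.le_centralizer hNp hNp
  have hMN : M ⊓ N = ⊥ := by
    refine (hN.min (M ⊓ N) (normal_of_le_normalizer_top (hNM ▸ sup_le
      (le_normalizer_inf le_normalizer le_normalizer_of_normal)
      (le_normalizer_of_le_centralizer (hNC.trans (centralizer_le_centralizer inf_le_right)))))
      inf_le_right).resolve_right fun h2 => hM.1 ?_
    rw [← hNM, sup_eq_left.mpr (inf_eq_right.mp h2)]
  rcases h M hM with h2 | h2
  · refine ⟨N, inferInstance, hasNormalPComplement_of_isPGroup hNp, ?_⟩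
    have := hasNormalPComplement_map h2 π
    have e : M.map π = ⊤ := by
      rw [← map_top_of_surjective π hs, ← hNM, Subgroup.map_sup, map_mk'_eq_bot_iff.mpr le_rfl,
        sup_bot_eq]
    rwa [e, hasNormalPComplement_top_iff] at this
  have h3 : Nat.card N = M.index := by
    have h4 := Core.card_sup_mul_card_inf (H := M) (N := N) le_normalizer_of_normal
    rw [hNM, hMN, card_top, card_bot, mul_one, ← M.card_mul_index] at h4
    exact (Nat.eq_of_mul_eq_mul_left Nat.card_pos h4).symm
  have h4 : Nat.card N = p := by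
    rw [← h3] at h2
    exact ((Nat.prime_dvd_prime_iff_eq hp.out h2).mp
      (dvd_card_of_isPGroup_of_ne_bot hNp hN.ne_bot)).symm
  haveI : IsCyclic N := isCyclic_of_prime_card h4
  have h5 : ¬ p ∣ Nat.card (MulAut N) := by
    rw [IsCyclic.card_mulAut, h4, Nat.totient_prime hp.out]
    exact Nat.not_dvd_of_pos_of_lt (by have := hp.out.two_le; omega)
      (by have := hp.out.two_le; omega)
  let φ := (QuotientGroup.mk' (K.comap π)).prod (MulAut.conjNormal (H := N))
  have hφ : ∀ x ∈ φ.ker, π x ∈ K ∧ x ∈ 𝐂(N) := fun x hx =>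
    ⟨(QuotientGroup.eq_one_iff x).mp (congrArg Prod.fst hx), fun n hn => by
      have : x * n * x⁻¹ = n := congrArg (fun e : (G ⧸ K.comap π) × MulAut N => (e.2 ⟨n, hn⟩ : G)) hx
      exact (mul_inv_eq_iff_eq_mul.mp this).symm⟩
  refine ⟨φ.ker, inferInstance, ?_, hnpc_quotient_ker φ
    (hnpc_prod (hnpc_comap_quotient k2) (hasNormalPComplement_of_not_dvd h5))⟩
  refine hnpc_of_ker_le_center ((π.comp φ.ker.subtype).codRestrict K fun x => (hφ x x.2).1) ?_ k1
  intro x hx
  have hxN : (x : G) ∈ N := (QuotientGroup.eq_one_iff _).mp (congrArg Subtype.val hx)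
  exact mem_center_iff.mpr fun y => Subtype.ext ((hφ y y.2).2 x hxN).symm

theorem exists_series (hG : PSolv p (⊤ : Subgroup G))
    (hmax : ∀ M : Subgroup G, IsCoatom M → (∃ K : Subgroup M, K.Normal ∧ ¬ p ∣ Nat.card K ∧
      ∃ k : ℕ, K.index = p ^ k) ∨ (M.index).Prime) :
    ∃ A B C : Subgroup G, A.Normal ∧ B.Normal ∧ C.Normal ∧ A ≤ B ∧ B ≤ C ∧ ¬ p ∣ Nat.card A ∧
      (∃ k : ℕ, A.relIndex B = p ^ k) ∧ ¬ p ∣ B.relIndex C ∧ ∃ k : ℕ, C.index = p ^ k := by
  obtain ⟨K, _, k1, k2⟩ := exists_normal_hnpc G hG fun M hM => (hmax M hM).imp_left (by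
    rintro ⟨K, _, h1, k, hk⟩
    exact hasNormalPComplement_of_normal h1 (IsPGroup.of_card (hk ▸ K.index_eq_card.symm)))
  have hs := QuotientGroup.mk'_surjective K
  refine ⟨OppOf p K, K, (pPrimeCore p _).comap (QuotientGroup.mk' K),
    normal_of_le_normalizer_top (le_normalizer_OppOf le_normalizer_of_normal), inferInstance,
    inferInstance, OppOf_le K, le_comap_mk' _, OppOf_not_dvd K, ?_, ?_, ?_⟩
  · rw [relIndex, OppOf_subgroupOf]
    exact index_pPrimeCore_of_hnpc k1
  · rw [relIndex_comap_mk']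
    exact pPrimeCore_not_dvd
  · rw [index_comap_of_surjective _ hs]
    exact index_pPrimeCore_of_hnpc k2

end Cfsg.Agent.Lib.MaxPNil
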