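/-
Minimal coprime actions on `p`-groups (Sylow subgroups of Schmidt groups).
-/
import Cfsg.Agent.Lib.PGroup.Special
import Cfsg.Agent.Lib.PGroup.PIso
import Cfsg.Prelude.Def_SolvableStructure
import Cfsg.Agent.Lib.Core.Baer
import Cfsg.Agent.Lib.Core.Fitting
import Cfsg.Agent.Lib.Transfer.Frobenius
import Cfsg.Agent.Lib.Glaub.Compl

set_option autoImplicit false
set_option linter.unusedSectionVars false
set_option linter.style.haveILetI false

namespace Cfsg.Agent.Lib.Schmidt

open Subgroup Cfsg.Agent.Lib.Core Cfsg.Agent.Lib.PGroup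
open scoped commutatorElement

/-- `α` is an automorphism of prime order `q ≠ p` of the `p`-group `P`, trivial on every proper
invariant subgroup. -/
structure MinAct (p q : ℕ) {P : Type*} [Group P] (α : MulAut P) : Prop where
  isPGroup : IsPGroup p P
  prime : q.Prime
  ne : q ≠ p
  ne_one : α ≠ 1
  pow : α ^ q = 1
  min : ∀ D : Subgroup P, D ≠ ⊤ → (∀ x ∈ D, α x ∈ D) → ∀ x ∈ D, α x = x

variable {P : Type*} [Group P] [Finite P] {p q : ℕ} [hp : Fact p.Prime] {α : MulAut P}

/-- fixed points of an automorphism -/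
def fixSub (α : MulAut P) : Subgroup P := α.toMonoidHom.eqLocus (MonoidHom.id P)

theorem mem_fixSub {x : P} : x ∈ fixSub α ↔ α x = x := Iff.rfl

theorem card_modEq_fixSub [Fact q.Prime] {k : ℕ} (h : α ^ q ^ k = 1) :
    Nat.card P ≡ Nat.card (fixSub α) [MOD q] := by
  have h5 : IsPGroup q (zpowers α) := isPGroup_zpowers h
  have h2 : Nat.card (MulAction.fixedPoints (zpowers α) P) = Nat.card (fixSub α) := by
    refine Nat.card_congr (Equiv.subtypeEquivRight fun a => ⟨fun h => h ⟨α, mem_zpowers α⟩, fun h => ?_⟩)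
    rintro ⟨g, hg⟩
    have : zpowers α ≤ MulAction.stabilizer (MulAut P) a := zpowers_le.mpr h
    exact this hg
  rw [← h2]; exact h5.card_modEq_card_fixedPoints P

theorem map_mem_of_characteristic (K : Subgroup P) [hK : K.Characteristic] {x : P} (hx : x ∈ K) :
    α x ∈ K := (characteristic_iff_map_le.mp hK α) (mem_map_of_mem _ hx)

namespace MinAct

theorem nontrivial (h : MinAct p q α) : Nontrivial P := by
  by_contra h0
  rw [not_nontrivial_iff_subsingleton] at h0
  exact h.ne_one (MulEquiv.ext fun x => Subsingleton.elim _ _)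

theorem coprime (h : MinAct p q α) : (orderOf α).Coprime p :=
  Nat.Coprime.coprime_dvd_left (orderOf_dvd_of_pow_eq_one h.pow)
    ((Nat.coprime_primes h.prime hp.out).mpr h.ne)

theorem fix_frattini (h : MinAct p q α) {x : P} (hx : x ∈ frattini P) : α x = x :=
  haveI := h.nontrivial
  h.min _ frattini_ne_top (fun _ hx => map_mem_of_characteristic _ hx) x hx

theorem fix_commutator (h : MinAct p q α) (x y : P) : α ⁅x, y⁆ = ⁅x, y⁆ :=
  h.fix_frattini (commutator_le_frattini h.isPGroup (commutatorElement_mem_commutator x y))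

theorem mem_center (h : MinAct p q α) {c : P} (hc : α c = c) : c ∈ center P := by
  have : centralizer ({c} : Set P) = ⊤ := by
    by_contra hne
    have h1 := h.min _ hne fun x hx => mem_centralizer_singleton_iff.mpr (by
      have := congrArg α (mem_centralizer_singleton_iff.mp hx)
      rwa [map_mul, map_mul, hc] at this)
    refine h.ne_one (mulAut_eq_one_of_stabilizes (N := fixSub α) (h.isPGroup.to_subgroup _)
      h.coprime (fun g => h1 _ (mem_centralizer_singleton_iff.mpr ?_)) fun _ hx => hx)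
    have h2 := h.fix_commutator g c
    rw [map_commutatorElement, hc, commutatorElement_def, commutatorElement_def, mul_left_inj] at h2
    calc g⁻¹ * α g * c = g⁻¹ * (α g * c * (α g)⁻¹) * α g := by group
      _ = c * (g⁻¹ * α g) := by rw [h2]; group
  exact mem_center_iff.mpr fun g => mem_centralizer_singleton_iff.mp (this.ge (mem_top g))

theorem comm_mem (h : MinAct p q α) (x y : P) : ⁅x, y⁆ ∈ center P :=
  h.mem_center (h.fix_commutator x y)

theorem pow_mem (h : MinAct p q α) (x : P) : x ^ p ∈ center P :=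
  h.mem_center (h.fix_frattini (pow_mem_frattini h.isPGroup x))

theorem fix_center (h : MinAct p q α) (hZ : center P ≠ ⊤) {c : P} (hc : c ∈ center P) : α c = c :=
  h.min _ hZ (fun _ hx => map_mem_of_characteristic _ hx) c hc

theorem not_dvd (h : MinAct p q α) (K : Subgroup P) : ¬ q ∣ Nat.card K :=
  haveI := Fact.mk h.prime
  not_dvd_card_of_isPGroup (h.isPGroup.to_subgroup K) h.ne

theorem mem_center_of_mod (h : MinAct p q α) {x : P} (hx : x⁻¹ * α x ∈ center P) :
    x ∈ center P := by
  haveI := Fact.mk h.prime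
  obtain ⟨n, hn, hn'⟩ := exists_fixed_in_coset (q := q) (k := 1) (h.not_dvd (center P))
    (by rw [pow_one, h.pow]) (fun n hn => map_mem_of_characteristic _ hn) hx
  exact (mul_mem_cancel_right hn).mp (h.mem_center hn')

theorem comm_mem_of_comm_mem (h : MinAct p q α) {x : P} (hx : x ∉ center P) {N : Subgroup P}
    (hN : ∀ g, ⁅x, g⁆ ∈ N) (u v : P) : ⁅u, v⁆ ∈ N := by
  let D : Subgroup P :=
    { carrier := {u | ∀ g, ⁅u, g⁆ ∈ N}
      one_mem' := fun g => by simp
      mul_mem' := fun {a b} ha hb g => by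
        rw [baer_comm_mul_left h.comm_mem]; exact mul_mem (ha g) (hb g)
      inv_mem' := fun {a} ha g => by
        have := baer_comm_mul_left h.comm_mem a⁻¹ a g
        rw [inv_mul_cancel, commutatorElement_one_left, eq_comm, mul_eq_one_iff_eq_inv] at this
        rw [this]; exact inv_mem (ha g) }
  have : D = ⊤ := by
    by_contra hne
    refine hx (h.mem_center (h.min D hne (fun u hu g => ?_) x hN))
    have := h.fix_commutator u (α.symm g)
    rw [map_commutatorElement, MulEquiv.apply_symm_apply] at this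
    rw [this]; exact hu _
  exact this.ge (mem_top u) v

theorem comm_zpow_left (h : MinAct p q α) (x t : P) (k : ℤ) : ⁅x ^ k, t⁆ = ⁅x, t⁆ ^ k :=
  map_zpow (MonoidHom.mk' (fun x : P => ⁅x, t⁆) fun a b => baer_comm_mul_left h.comm_mem a b t) x k

theorem comm_zpow_right (h : MinAct p q α) (x t : P) (k : ℤ) : ⁅x, t ^ k⁆ = ⁅x, t⁆ ^ k :=
  map_zpow (MonoidHom.mk' (fun t : P => ⁅x, t⁆) fun a b => baer_comm_mul_right h.comm_mem a b x) t k

/-- For `p = 2, 3`: `P' ≤ Φ(R)` for every maximal subgroup `R ≥ Z(P)`. -/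
theorem comm_mem_of_index (h : MinAct p q α) (hp3 : p ≤ 3) {R N : Subgroup P} (hZ : center P ≤ R)
    (hR : R.index = p) (h1 : ∀ x ∈ R, ∀ y ∈ R, ⁅x, y⁆ ∈ N) (h2 : ∀ x ∈ R, x ^ p ∈ N) (u v : P) :
    ⁅u, v⁆ ∈ N := by
  haveI := Fact.mk h.prime
  wlog hN : N ≤ center P generalizing N
  · exact (this (N := N ⊓ center P) (fun x hx y hy => ⟨h1 x hx y hy, h.comm_mem x y⟩)
      (fun x hx => ⟨h2 x hx, h.pow_mem x⟩) inf_le_right).1
  by_contra huv
  have hRc : IsCoatom R := isCoatom_of_index_prime (hR ▸ hp.out)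
  haveI hRn := normal_of_index_eq h.isPGroup hR
  have hZt : center P ≠ ⊤ := fun e => hRc.1 (eq_top_iff.mpr (e.ge.trans hZ))
  have hgen : ∀ t, t ∉ R → ∀ g, ∃ r ∈ R, ∃ k : ℤ, r * t ^ k = g := fun t ht g =>
    (mem_sup_zpowers_iff (le_normalizer_of_normal (mem_top t))).mp
      ((hRc.2 _ (lt_of_le_of_ne le_sup_left fun e => ht (e.ge (mem_sup_right (mem_zpowers t))))).ge
        (mem_top g))
  have hA : ∀ t, t ∉ R → ∀ x ∈ R, ⁅x, t⁆ ∈ N → x ∈ center P := fun t ht x hx hxt => by
    by_contra hxZ
    refine huv (h.comm_mem_of_comm_mem hxZ (fun g => ?_) u v)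
    obtain ⟨r, hr, k, rfl⟩ := hgen t ht g
    rw [baer_comm_mul_right h.comm_mem, h.comm_zpow_right]
    exact mul_mem (h1 x hx r hr) (zpow_mem hxt k)
  obtain ⟨t, -, ht⟩ := SetLike.exists_of_lt hRc.lt_top
  obtain ⟨x, hx, hxZ⟩ : ∃ x ∈ R, x ∉ center P := by
    by_contra hne
    push Not at hne
    obtain ⟨a, ha, k, rfl⟩ := hgen t ht u
    obtain ⟨b, hb, l, rfl⟩ := hgen t ht v
    apply huv
    rw [baer_comm_mul_left h.comm_mem, baer_comm_central_left (hne a ha), one_mul,
      baer_comm_mul_right h.comm_mem, baer_comm_central_right (hne b hb), one_mul,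
      commutatorElement_eq_one_iff_commute.mpr ((Commute.refl t).zpow_zpow k l)]
    exact one_mem _
  have hRx : R = center P ⊔ zpowers x := by
    refine le_antisymm (fun y hy => ?_) (sup_le hZ (zpowers_le.mpr hx))
    have hc : ⁅y, t⁆ ∈ N ⊔ zpowers ⁅x, t⁆ := h.comm_mem_of_comm_mem hxZ (fun g => by
      obtain ⟨r, hr, k, rfl⟩ := hgen t ht g
      rw [baer_comm_mul_right h.comm_mem, h.comm_zpow_right]
      exact mul_mem_sup (h1 x hx r hr) (zpow_mem (mem_zpowers _) k)) y t
    obtain ⟨n, hn, k, e⟩ := (mem_sup_zpowers_iff (center_le_normalizer _ (h.comm_mem x t))).mp hc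
    have : y * x ^ (-k) ∈ center P := hA t ht _ (mul_mem hy (zpow_mem hx _)) (by
      rw [baer_comm_mul_left h.comm_mem, h.comm_zpow_left, ← e, mul_assoc, ← zpow_add,
        add_neg_cancel, zpow_zero, mul_one]; exact hn)
    have e2 : y = y * x ^ (-k) * x ^ k := by group
    rw [e2]; exact mul_mem_sup this (zpow_mem (mem_zpowers x) k)
  have hαx : α x ∉ R := fun hα => by
    refine hxZ (h.mem_center (h.min R hRc.1 (fun y hy => ?_) x hx))
    obtain ⟨n, hn, k, rfl⟩ := (mem_sup_zpowers_iff (le_normalizer_of_normal (mem_top x))).mp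
      (hRx.le hy)
    rw [map_mul, map_zpow]
    exact mul_mem (hZ (map_mem_of_characteristic _ hn)) (zpow_mem hα k)
  have hcard : Nat.card P = Nat.card (center P) * (p * p) := by
    have := card_sup_zpowers (p := p) (N := center P) (le_normalizer_of_normal (mem_top x)) hxZ
      (h.pow_mem x)
    rw [← R.card_mul_index, hR, hRx, this, mul_assoc]
  have hq : q ∣ p * p - 1 := by
    have a1 := card_modEq_fixSub (q := q) (k := 1) (α := α) (by rw [pow_one, h.pow])
    have a2 : fixSub α = center P :=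
      le_antisymm (fun c hc => h.mem_center hc) fun c hc => h.fix_center hZt hc
    rw [a2, hcard] at a1
    have a3 : Nat.card (center P) * (p * p) ≡ Nat.card (center P) * 1 [MOD q] := by rwa [mul_one]
    exact (Nat.modEq_iff_dvd' (Nat.mul_pos hp.out.pos hp.out.pos)).mp
      (Nat.ModEq.cancel_left_of_coprime
        ((Nat.Prime.coprime_iff_not_dvd h.prime).mpr (h.not_dvd _)) a3).symm
  let π := QuotientGroup.mk' (center P)
  have hπ : ∀ a, π a = 1 ↔ a ∈ center P := fun a => QuotientGroup.eq_one_iff a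
  haveI : IsMulCommutative (P ⧸ center P) :=
    Subgroup.Normal.quotient_commutative_iff_commutator_le.mpr
      (commutator_le.mpr fun a _ b _ => h.comm_mem a b)
  haveI : Std.Commutative (α := P ⧸ center P) (· * ·) := IsMulCommutative.is_comm
  have hp2 := hp.out.two_le
  obtain rfl | rfl : p = 2 ∨ p = 3 := by omega
  · obtain rfl : q = 3 := (Nat.prime_dvd_prime_iff_eq h.prime Nat.prime_three).mp hq
    have e3 : α (α (α x)) = x := congrArg (fun f : MulAut P => f x) h.pow
    have hn : x * α x * α (α x) ∈ center P := h.mem_center_of_mod ((hπ _).mp (by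
      simp only [map_mul, map_inv, e3]
      rw [inv_mul_eq_one]; ac_rfl))
    have f1 : α (x ^ 2) = x ^ 2 := h.fix_center hZt (h.pow_mem x)
    have f2 : α x ^ 2 ∈ N := by rw [← map_pow, f1]; exact h2 x hx
    have f3 : α (α x) ^ 2 ∈ N := by rw [← map_pow, ← map_pow, f1, f1]; exact h2 x hx
    have f4 : (x * α x) ^ 2 ∈ N := by
      have : x * α x = (x * α x * α (α x)) * (α (α x))⁻¹ := by group
      rw [this, ((commute_of_mem_center hn _)).mul_pow, inv_pow]
      exact mul_mem (h2 _ (hZ hn)) (inv_mem f3)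
    have f5 := mul_pow_of_commute_commutator (x := x) (y := α x)
      (commute_of_mem_center (h.comm_mem _ _) _) (commute_of_mem_center (h.comm_mem _ _) _) 2
    rw [f5, mul_mem_cancel_right f2, mul_mem_cancel_right (h2 x hx), Nat.choose_self, pow_one,
      ← inv_mem_iff, commutatorElement_inv] at f4
    exact hxZ (hA _ hαx x hx f4)
  · obtain rfl : q = 2 := (Nat.prime_dvd_prime_iff_eq h.prime Nat.prime_two).mp
      (h.prime.dvd_of_dvd_pow (show q ∣ 2 ^ 3 from hq))
    have e3 : α (α x) = x := congrArg (fun f : MulAut P => f x) h.pow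
    have hn : x * α x ∈ center P := h.mem_center_of_mod ((hπ _).mp (by
      simp only [map_mul, map_inv, e3]
      rw [inv_mul_eq_one]; ac_rfl))
    exact hαx ((mul_mem_cancel_left hx).mp (hZ hn))

end MinAct

theorem exists_pow_ne_one {M : Type*} [Monoid M] {a : M} {q k : ℕ} (h : a ^ q ^ k = 1) (h1 : a ≠ 1) :
    ∃ j, a ^ q ^ j ≠ 1 ∧ (a ^ q ^ j) ^ q = 1 := by
  induction k with
  | zero => exact absurd (by simpa using h) h1
  | succ k ih =>
    by_cases h2 : a ^ q ^ k = 1
    · exact ih h2
    · exact ⟨k, h2, by rwa [← pow_mul, ← pow_succ]⟩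

/-- The normal Sylow subgroup of a Schmidt group carries a minimal action. -/
theorem exists_minAct {X : Type*} [Group X] [Finite X] (hX : IsMinimalNonNilpotent X)
    (P : Sylow p X) [hPn : (P : Subgroup X).Normal] (hP1 : (P : Subgroup X) ≠ ⊥) :
    ∃ (q : ℕ) (α : MulAut P), MinAct p q α := by
  have hS := isSyl_sylow P
  have h1 : ¬ HasNormalPComplement p X := fun h => by
    have h2 := Glaub.sup_OppOf_of_hnpc (Transfer.hasNormalPComplement_top_iff.mpr h) hS
    rw [OppOf_top] at h2
    have h3 : pPrimeCore p X ≠ ⊤ := fun e =>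
      hP1 (hS.eq_bot (by rw [← e]; exact pPrimeCore_not_dvd))
    have h4 := isNilpotent_sup hS.isPGroup.isNilpotent (hX.2 _ h3) le_normalizer_of_normal
      le_normalizer_of_normal
    rw [h2] at h4
    exact hX.1 (Group.nilpotent_of_mulEquiv topEquiv)
  obtain ⟨Q, hQn, hQ, q, hq, hqp, g, ⟨k, hk⟩, hg, -⟩ :=
    Transfer.exists_of_minimal_not_hasNormalPComplement h1 fun H hH =>
      haveI := hX.2 H hH; Transfer.hasNormalPComplement_of_isNilpotent
  haveI := Fact.mk hq
  obtain ⟨j, a1, a2⟩ := exists_pow_ne_one (a := MulAut.conjNormal (H := (P : Subgroup X)) g)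
    (q := q) (k := k) (by rw [← map_pow, hk, map_one]) fun e => hg (by
      refine centralizer_le_centralizer (hQ.le_sylow_of_normal P) (mem_centralizer_iff.mpr fun y hy => ?_)
      have := congrArg (fun f : MulAut P => ((f ⟨y, hy⟩ : P) : X)) e
      simp only [MulAut.conjNormal_apply, MulAut.one_apply] at this
      rw [mul_inv_eq_iff_eq_mul] at this; exact this.symm)
  refine ⟨q, _, P.isPGroup', hq, hqp, a1, a2, fun D hD hinv x hx => Subtype.ext ?_⟩
  rw [← map_pow] at hinv ⊢
  set y := g ^ q ^ j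
  have hy : IsPGroup q (zpowers y) := isPGroup_zpowers (k := k) (by
    rw [← pow_mul, mul_comm, pow_mul, hk, one_pow])
  have hyp := not_dvd_card_of_isPGroup hy hqp.symm
  have hn : zpowers y ≤ normalizer ((D.map (P : Subgroup X).subtype : Subgroup X) : Set X) :=
    zpowers_le.mpr (mem_normalizer_of_conj_mem (by
      rintro _ ⟨d, hd, rfl⟩; exact mem_map_of_mem _ (hinv d hd)))
  have hDp : IsPGroup p (D.map (P : Subgroup X).subtype) := hS.isPGroup.to_le (map_subtype_le _)
  have hne : zpowers y ⊔ D.map (P : Subgroup X).subtype ≠ ⊤ := fun e => by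
    have b1 := card_sup_dvd hn
    rw [e, card_top, Core.card_map_subtype] at b1
    have b2 := (coprime_card_of_isPGroup hS.isPGroup hyp).dvd_of_dvd_mul_left
      ((card_subgroup_dvd_card _).trans b1)
    exact absurd (Nat.le_of_dvd Nat.card_pos b2) (not_le.mpr (card_lt_of_ne_top hD))
  have := le_centralizer_of_coprime_of_isNilpotent (hX.2 _ hne) le_sup_left le_sup_right
    (coprime_card_of_isPGroup hDp hyp).symm (mem_zpowers y)
  rw [MulAut.conjNormal_apply, mul_inv_eq_iff_eq_mul]
  exact (mem_centralizer_iff.mp this x (mem_map_of_mem _ hx)).symm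

end Cfsg.Agent.Lib.Schmidt
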